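import Groth.Agent.L14.BorelLoc.Conjugacy
import Groth.Agent.L08.Borel.MaxToriConj
import Groth.Agent.L08.Borel.MaxTorusBC

/-!
Killing pairs are conjugate etale locally.
-/

set_option autoImplicit false
set_option linter.style.haveILetI false
set_option linter.unusedSectionVars false
set_option backward.isDefEq.respectTransparency.types false
set_option maxHeartbeats 800000
universe u

open CategoryTheory CategoryTheory.Limits AlgebraicGeometry MonoidalCategory CartesianMonoidalCategory MonObj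
open Groth.L25 Groth.L14 Groth.L14.BorelLoc

noncomputable section

namespace Groth.L15.Killing

variable {S : Scheme.{u}}

/-- A maximal torus of the ambient group contained in a subgroup is maximal in it. -/
theorem isMaximalTorus_of_comp {G C T : Over S} [GrpObj G] [GrpObj C] [GrpObj T] (t : T ⟶ C) [IsMonHom t]
    (c : C ⟶ G) [IsMonHom c] [Mono c] (h : Red.IsMaximalTorus (t ≫ c)) : Red.IsMaximalTorus t := by
  haveI := h.2.1
  refine ⟨inferInstance, mono_of_mono t c, h.2.2.1, fun s T' _ j _ _ f hT' hf => ?_⟩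
  haveI : IsMonHom ((Over.pullback (Red.geomPt s)).map c) := Groth.L25.MonoClosed.isMonHom_pullbackMap _ _
  haveI : Mono ((Over.pullback (Red.geomPt s)).map c) := Functor.map_mono _ _
  haveI : Mono (j ≫ (Over.pullback (Red.geomPt s)).map c) := mono_comp _ _
  exact h.2.2.2 s T' (j ≫ (Over.pullback (Red.geomPt s)).map c) f hT' (by
    rw [reassoc_of% hf, ← Functor.map_comp])

theorem isMonHom_of_comp_mono {G C T : Over S} [GrpObj G] [GrpObj C] [GrpObj T] (t : T ⟶ C) (c : C ⟶ G)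
    [IsMonHom c] [Mono c] [IsMonHom (t ≫ c)] : IsMonHom t :=
  Groth.L25.Bridge.isMonHom_of_mul t fun X a b => (cancel_mono c).1 (by
    rw [Category.assoc, MonObj.mul_comp, MonObj.mul_comp, Category.assoc, Category.assoc])

theorem conjEq_self {G B : Over S} [GrpObj G] [GrpObj B] (i : B ⟶ G) [IsMonHom i] (b : 𝟙_ _ ⟶ B) :
    RedSub.ConjEq i i (b ≫ i) := by
  intro X x
  refine ⟨fun a => ⟨(x ≫ b) * a * (x ≫ b)⁻¹, ?_⟩, fun a => ⟨(x ≫ b)⁻¹ * a * (x ≫ b), ?_⟩⟩ <;>
    simp only [MonObj.mul_comp, GrpObj.inv_comp, Category.assoc]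

theorem conjEq_of_conjBy {G H₁ H₂ : Over S} [GrpObj G] {i₁ : H₁ ⟶ G} {i₂ : H₂ ⟶ G} {g : 𝟙_ _ ⟶ G}
    (h : SGA3x.ConjBy i₁ i₂ g) : RedSub.ConjEq i₁ i₂ g := by
  obtain ⟨φ, hφ⟩ := h
  intro X x
  obtain rfl : x = toUnit X := toUnit_unique _ _
  have e : ∀ a : X ⟶ H₁, (toUnit X ≫ g) * (a ≫ i₁) * (toUnit X ≫ g)⁻¹ = (a ≫ φ.hom) ≫ i₂ := fun a => by
    rw [Category.assoc, ← hφ]
    simp only [MonObj.comp_mul, GrpObj.comp_inv, comp_toUnit_assoc]
  refine ⟨fun a => ⟨a ≫ φ.hom, e a⟩, fun c => ⟨c ≫ φ.inv, ?_⟩⟩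
  have h1 := e (c ≫ φ.inv)
  simp only [Category.assoc, Iso.inv_hom_id_assoc] at h1 ⊢
  rw [← h1]
  group

theorem conjEq_inner' {G B : Over S} [GrpObj G] (i : B ⟶ G) (g : 𝟙_ _ ⟶ G) :
    RedSub.ConjEq i (i ≫ Chev.inner g) g := by
  intro X x
  obtain rfl : x = toUnit X := toUnit_unique _ _
  have e : ∀ h : X ⟶ B, h ≫ i ≫ Chev.inner g = (toUnit X ≫ g) * (h ≫ i) * (toUnit X ≫ g)⁻¹ := fun h => by
    rw [← Category.assoc, Chev.comp_inner]
  exact ⟨fun h => ⟨h, (e h).symm⟩, fun h => ⟨h, by rw [e h]; group⟩⟩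

/-- **Killing pairs are conjugate etale locally.** -/
theorem exists_conj_pairs {G B B' T T' : Over S} [GrpObj G] [GrpObj B] [GrpObj B'] [GrpObj T] [GrpObj T']
    (hG : Red.IsReductive G) (i : B ⟶ G) (i' : B' ⟶ G) (hB : Red.IsBorel i) (hB' : Red.IsBorel i')
    (t : T ⟶ B) (t' : T' ⟶ B') [IsMonHom t] [IsMonHom t'] (hT : Red.IsMaximalTorus (t ≫ i))
    (hT' : Red.IsMaximalTorus (t' ≫ i')) (s : S) :
    ∃ (U : Scheme.{u}) (f : U ⟶ S) (_ : Etale f), s ∈ Set.range f.base ∧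
      ∃ g : 𝟙_ _ ⟶ Red.bc f G, RedSub.ConjEq ((Over.pullback f).map i) ((Over.pullback f).map i') g ∧
        RedSub.ConjEq ((Over.pullback f).map (t ≫ i)) ((Over.pullback f).map (t' ≫ i')) g := by
  obtain ⟨V, f, hf, ⟨v, hv⟩, g, hg⟩ := conjLoc_borel hG hB hB' s
  haveI := hf
  haveI := hG.1; haveI := hG.2.1
  have hG₁ := Groth.L14.Splitting.isReductive_bc hG f
  have hB₁ := isBorel_bc hG hB f
  have hB₁' := isBorel_bc hG hB' f
  have hT₁ := Groth.L08.Borel.isMaximalTorus_bc hT f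
  have hT₁' := Groth.L08.Borel.isMaximalTorus_bc hT' f
  rw [Functor.map_comp] at hT₁ hT₁'
  haveI : IsMonHom ((Over.pullback f).map t) := Groth.L25.MonoClosed.isMonHom_pullbackMap _ _
  haveI : IsMonHom ((Over.pullback f).map t') := Groth.L25.MonoClosed.isMonHom_pullbackMap _ _
  let i₁ := (Over.pullback f).map i
  let i₁' := (Over.pullback f).map i'
  let t₁ := (Over.pullback f).map t
  let t₁' := (Over.pullback f).map t'
  haveI := hB₁.1; haveI := hB₁'.1; haveI := hB₁.2.1; haveI := hB₁'.2.1; haveI := hB₁'.2.2.1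
  haveI : Mono i₁ := Over.mono_of_mono_left i₁
  haveI : Mono i₁' := Over.mono_of_mono_left i₁'
  haveI := Chev.isMonHom_inner g
  haveI := Chev.isIso_inner g
  -- the conjugate of the first Borel subgroup is the second one
  obtain ⟨a, ha⟩ := (hg _ (toUnit (Red.bc f B))).1 (𝟙 _)
  obtain ⟨c, hc⟩ := (hg _ (toUnit (Red.bc f B'))).2 (𝟙 _)
  rw [Category.id_comp] at ha hc
  have ha' : a ≫ i₁' = i₁ ≫ Chev.inner g := by rw [← ha, Chev.comp_inner]
  have hc' : c ≫ i₁ ≫ Chev.inner g = i₁' := by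
    rw [← Category.assoc, Chev.comp_inner, ← hc]; group; rfl
  let φ : Red.bc f B' ≅ Red.bc f B := ⟨c, a,
    (cancel_mono i₁').1 (by rw [Category.assoc, ha', hc', Category.id_comp]),
    (cancel_mono (i₁ ≫ Chev.inner g)).1 (by rw [Category.assoc, hc', ha', Category.id_comp])⟩
  let m := t₁ ≫ a
  have hm : m ≫ i₁' = (t₁ ≫ i₁) ≫ Chev.inner g := by rw [Category.assoc, ha', Category.assoc]
  have hmax : Red.IsMaximalTorus (m ≫ i₁') := by
    rw [hm, Chev.comp_inner]
    haveI := hG₁.1; haveI := hG₁.2.1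
    exact Groth.L08.Borel.isMaximalTorus_conj hT₁ g
  haveI := hmax.1
  haveI : IsMonHom m := isMonHom_of_comp_mono m i₁'
  haveI : IsAffineHom (Red.bc f G).hom := hG₁.1
  haveI : IsSeparated (Red.bc f B').hom := by rw [← Over.w i₁']; infer_instance
  haveI : QuasiCompact (Red.bc f B').hom := by rw [← Over.w i₁']; infer_instance
  obtain ⟨W, f', hf', hfs, b, hb⟩ := Groth.L08.Borel.maxTori_conj_etale
    (isMaximalTorus_of_comp m i₁' hmax) (isMaximalTorus_of_comp t₁' i₁' hT₁')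
  haveI := hf'; haveI := hfs
  obtain ⟨w, hw⟩ := f'.surjective v
  obtain ⟨g', hg'⟩ := map_inner f' g
  let F := Over.pullback f'
  haveI : IsMonHom (F.map i₁') := Groth.L25.MonoClosed.isMonHom_pullbackMap _ _
  have hbi : RedSub.ConjEq (F.map i₁) (F.map i₁') ((b ≫ F.map i₁') * g') := by
    refine conjEq_trans ?_ (conjEq_self (F.map i₁') b)
    refine conjEq_iso (conjEq_inner' (F.map i₁) g') (F.mapIso φ) ?_
    rw [← hg', ← Functor.map_comp]
    exact (F.map_comp _ _).symm.trans (congrArg F.map hc')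
  have hbt : RedSub.ConjEq (F.map (t₁ ≫ i₁)) (F.map (t₁' ≫ i₁')) ((b ≫ F.map i₁') * g') := by
    haveI : IsMonHom (F.map t₁) := Groth.L25.MonoClosed.isMonHom_pullbackMap _ _
    have h1 : RedSub.ConjEq (F.map (t₁ ≫ i₁)) (F.map (m ≫ i₁')) g' := by
      rw [hm, Functor.map_comp F (t₁ ≫ i₁), hg']
      exact conjEq_inner' _ g'
    refine conjEq_trans h1 ?_
    obtain ⟨ψ, hψ⟩ := hb
    refine conjEq_of_conjBy ⟨ψ, ?_⟩
    rw [F.map_comp m i₁', F.map_comp t₁' i₁', ← Category.assoc ψ.hom, ← hψ]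
    simp only [MonObj.mul_comp, GrpObj.inv_comp, Category.assoc]
    all_goals rfl
  let jG : Red.bc f' (Red.bc f G) ≅ Red.bc (f' ≫ f) G := ActBC.bcCompIso f' f G rfl
  haveI : IsMonHom jG.hom := ActBC.bcCompIso_isMonHom (G := G) _ _ _
  refine ⟨W, f' ≫ f, inferInstance, ⟨w, ?_⟩, ((b ≫ F.map i₁') * g') ≫ jG.hom,
    conjEq_transport hbi jG (ActBC.bcCompIso f' f B rfl) (ActBC.bcCompIso f' f B' rfl)
      (ActBC.bcCompIso_hom_naturality f' f rfl i) (ActBC.bcCompIso_hom_naturality f' f rfl i'), ?_⟩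
  · show (f' ≫ f) w = s
    rw [Scheme.Hom.comp_apply, hw]
    exact hv
  · refine conjEq_transport (j := (Over.pullback (f' ≫ f)).map (t ≫ i))
      (j' := (Over.pullback (f' ≫ f)).map (t' ≫ i')) hbt jG (ActBC.bcCompIso f' f T rfl)
      (ActBC.bcCompIso f' f T' rfl) ?_ ?_
    · show F.map ((Over.pullback f).map t ≫ (Over.pullback f).map i) ≫ _ = _
      rw [← Functor.map_comp (Over.pullback f)]
      exact ActBC.bcCompIso_hom_naturality f' f rfl (t ≫ i)
    · show F.map ((Over.pullback f).map t' ≫ (Over.pullback f).map i') ≫ _ = _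
      rw [← Functor.map_comp (Over.pullback f)]
      exact ActBC.bcCompIso_hom_naturality f' f rfl (t' ≫ i')

end Groth.L15.Killing

end
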