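import Groth.Agent.L15.Killing.Main

/-!
A point normalising a subgroup containing a maximal torus normalises, etale locally and up to a point of the
subgroup, that torus.
-/

set_option autoImplicit false
set_option linter.style.haveILetI false
set_option linter.unusedSectionVars false
set_option backward.isDefEq.respectTransparency.types false
set_option maxHeartbeats 800000
universe u

open CategoryTheory CategoryTheory.Limits AlgebraicGeometry MonoidalCategory CartesianMonoidalCategory MonObj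
open Groth.L25 Groth.L14 Groth.L14.BorelLoc

noncomputable section

namespace Groth.L15.Killing

variable {S : Scheme.{u}}

/-- base change of an inner automorphism -/
theorem map_inner_eq {V : Scheme.{u}} (f : V ⟶ S) {G : Over S} [GrpObj G] (g : 𝟙_ (Over S) ⟶ G) :
    (Over.pullback f).map (Chev.inner g) = Chev.inner (NilAction.ofBase f (toUnit _ ≫ g)) := by
  refine Luna.SemiRank.toBase_inj f ?_
  let g' : 𝟙_ (Over V) ⟶ Red.bc f G := NilAction.ofBase f (toUnit _ ≫ g)
  let X : Over V := Red.bc f G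
  have hinv : ∀ z : X ⟶ Red.bc f G, NilAction.toBase f z⁻¹ = (NilAction.toBase f z)⁻¹ := fun z =>
    map_inv (MonoidHom.mk' (NilAction.toBase f : (X ⟶ Red.bc f G) → _) (NilAction.toBase_mul f)) z
  have hn' : NilAction.toBase f (toUnit X ≫ g') = toUnit (Over.mk (X.hom ≫ f)) ≫ g := by
    rw [CentralLift.toBase_comp, NilAction.toBase_ofBase, ← Category.assoc]
    congr 1
  show NilAction.toBase f ((Over.pullback f).map (Chev.inner g)) =
    NilAction.toBase f ((toUnit X ≫ g') * 𝟙 X * (toUnit X ≫ g')⁻¹)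
  rw [NilAction.toBase_mul, NilAction.toBase_mul, hinv, hn', ← Category.id_comp ((Over.pullback f).map (Chev.inner g)),
    Groth.L14.RankOne.toBase_comp_map, Chev.comp_inner]

variable {G H : Over S} [GrpObj G] [GrpObj H] {T : Over S} [GrpObj T]

/-- Normalisers of subgroups containing a maximal torus, etale locally. -/
theorem exists_torus_normalising (hG : Red.IsReductive G) (h : H ⟶ G) (hH : RedSub.IsSubgrp h) [Smooth H.hom]
    [QuasiCompact H.hom] (t : T ⟶ H) [IsMonHom t] (hT : Red.IsMaximalTorus (t ≫ h)) (X : Over S) (γ : X ⟶ G)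
    (hγ : ∀ (X' : Over S) (x : X' ⟶ X) (a : X' ⟶ H), ∃ a' : X' ⟶ H, (x ≫ γ)⁻¹ * (a ≫ h) * (x ≫ γ) = a' ≫ h) :
    ∃ (Y : Scheme.{u}) (f : Y ⟶ X.left) (_ : Etale f) (_ : Surjective f) (y : Over.mk (f ≫ X.hom) ⟶ H),
      ∀ (X' : Over S) (z : X' ⟶ Over.mk (f ≫ X.hom)) (s : X' ⟶ T),
        (∃ s' : X' ⟶ T, (z ≫ ((Over.homMk f ≫ γ) * (y ≫ h))) * (s ≫ t ≫ h) *
            (z ≫ ((Over.homMk f ≫ γ) * (y ≫ h)))⁻¹ = s' ≫ t ≫ h) ∧
        (∃ s' : X' ⟶ T, (z ≫ ((Over.homMk f ≫ γ) * (y ≫ h)))⁻¹ * (s ≫ t ≫ h) *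
            (z ≫ ((Over.homMk f ≫ γ) * (y ≫ h))) = s' ≫ t ≫ h) := by
  haveI := hH.1; haveI := hH.2; haveI := hG.1; haveI := hG.2.1
  let q := X.hom
  let Q := Over.pullback q
  have hGq := Groth.L14.Splitting.isReductive_bc hG q
  haveI : IsMonHom (Q.map t) := Groth.L25.MonoClosed.isMonHom_pullbackMap _ _
  haveI : IsMonHom (Q.map h) := Groth.L25.MonoClosed.isMonHom_pullbackMap _ _
  haveI : IsImmersion (Q.map h).left := MorphismProperty.overPullbackMap (P := @IsImmersion) q h hH.2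
  haveI : Mono (Q.map h) := Over.mono_of_mono_left _
  have hTq : Red.IsMaximalTorus (Q.map (t ≫ h)) := Groth.L08.Borel.isMaximalTorus_bc hT q
  let e1 : Over.mk ((𝟙_ (Over X.left)).hom ≫ q) ⟶ X := Over.homMk (𝟙 _) (by
    show 𝟙 _ ≫ X.hom = 𝟙 _ ≫ X.hom
    rfl)
  let nX : 𝟙_ (Over X.left) ⟶ Red.bc q G := NilAction.ofBase q (e1 ≫ γ)
  let iT := Q.map (t ≫ h) ≫ Chev.inner nX⁻¹
  obtain ⟨m, hm⟩ : ∃ m : Red.bc q T ⟶ Red.bc q H, m ≫ Q.map h = iT := by
    let x : Over.mk ((Red.bc q T).hom ≫ q) ⟶ X := Over.homMk (Red.bc q T).hom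
    obtain ⟨a', ha'⟩ := hγ _ x (NilAction.toBase q (𝟙 (Red.bc q T)) ≫ t)
    refine ⟨NilAction.ofBase q a', Luna.SemiRank.toBase_inj q ?_⟩
    have hu : NilAction.toBase q (toUnit (Red.bc q T) ≫ nX) = x ≫ γ := by
      rw [CentralLift.toBase_comp, NilAction.toBase_ofBase, ← Category.assoc]
      congr 1
    let Φ := MonoidHom.mk' (NilAction.toBase q : ((Red.bc q T) ⟶ Red.bc q G) → _) (NilAction.toBase_mul q)
    have hι : iT = (toUnit (Red.bc q T) ≫ nX)⁻¹ * (𝟙 _ ≫ Q.map (t ≫ h)) * (toUnit (Red.bc q T) ≫ nX) := by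
      show Q.map (t ≫ h) ≫ Chev.inner nX⁻¹ = _
      rw [Chev.comp_inner, GrpObj.comp_inv, _root_.inv_inv, Category.id_comp]
    rw [Groth.L14.RankOne.toBase_comp_map, NilAction.toBase_ofBase, ← ha', hι]
    show _ = Φ _
    rw [map_mul, map_mul, map_inv]
    show _ = (NilAction.toBase q _)⁻¹ * NilAction.toBase q _ * NilAction.toBase q _
    rw [hu, Groth.L14.RankOne.toBase_comp_map, Category.assoc]
  have hmax : Red.IsMaximalTorus (m ≫ Q.map h) := by
    rw [hm]
    show Red.IsMaximalTorus (Q.map (t ≫ h) ≫ Chev.inner nX⁻¹)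
    rw [Chev.comp_inner]
    haveI := hGq.1; haveI := hGq.2.1
    exact Groth.L08.Borel.isMaximalTorus_conj hTq _
  haveI := hmax.1
  haveI : IsMonHom m := isMonHom_of_comp_mono m (Q.map h)
  haveI : IsAffineHom (Red.bc q G).hom := hGq.1
  haveI : IsSeparated (Red.bc q H).hom := by rw [← Over.w (Q.map h)]; infer_instance
  haveI : QuasiCompact (Red.bc q H).hom := MorphismProperty.pullback_snd (P := @QuasiCompact) _ _ ‹_›
  haveI : Smooth (Red.bc q H).hom := MorphismProperty.pullback_snd (P := @Smooth) _ _ ‹Smooth H.hom›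
  have hTq' : Red.IsMaximalTorus (Q.map t ≫ Q.map h) := by rw [← Functor.map_comp]; exact hTq
  obtain ⟨Y, f, hf, hfs, b, ψ, hψ⟩ := Groth.L08.Borel.maxTori_conj_etale
    (isMaximalTorus_of_comp (Q.map t) (Q.map h) hTq') (isMaximalTorus_of_comp m (Q.map h) hmax)
  let F := Over.pullback f
  haveI : IsMonHom (F.map (Q.map h)) := Groth.L25.MonoClosed.isMonHom_pullbackMap _ _
  let nY : 𝟙_ (Over Y) ⟶ Red.bc f (Red.bc q G) := NilAction.ofBase f (toUnit _ ≫ nX)
  let gY := nY * (b ≫ F.map (Q.map h))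
  have hconj : RedSub.ConjEq (F.map (Q.map (t ≫ h))) (F.map (Q.map (t ≫ h))) gY := by
    haveI : IsMonHom (F.map (Q.map t)) := Groth.L25.MonoClosed.isMonHom_pullbackMap _ _
    haveI : IsMonHom (Chev.inner nX) := Chev.isMonHom_inner _
    have h1 : RedSub.ConjEq (F.map (Q.map (t ≫ h))) (F.map iT) (b ≫ F.map (Q.map h)) := by
      refine conjEq_of_conjBy ⟨ψ, ?_⟩
      rw [← hm, F.map_comp m (Q.map h), Functor.map_comp Q, F.map_comp (Q.map t) (Q.map h), ← Category.assoc ψ.hom,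
        ← hψ]
      simp only [MonObj.mul_comp, GrpObj.inv_comp, Category.assoc]
      all_goals rfl
    refine conjEq_trans h1 ?_
    have e : F.map iT ≫ Chev.inner nY = F.map (Q.map (t ≫ h)) := by
      rw [← map_inner_eq f nX, ← Functor.map_comp, Category.assoc]
      have := Chev.inner_inner (nX⁻¹)
      rw [_root_.inv_inv] at this
      rw [this, Category.comp_id]
    have h2 := conjEq_inner' (F.map iT) nY
    rwa [e] at h2
  let e0 : Over.mk (f ≫ q) ⟶ Over.mk (((Over.mk ((𝟙_ (Over Y)).hom ≫ f) : Over X.left)).hom ≫ q) :=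
    Over.homMk (𝟙 _) (by show 𝟙 _ ≫ (𝟙 _ ≫ f) ≫ q = f ≫ q; simp)
  let y : Over.mk (f ≫ q) ⟶ H := e0 ≫ NilAction.toBase q (NilAction.toBase f b)
  refine ⟨Y, f, hf, hfs, y, fun X' z s => ?_⟩
  let Y' : Over Y := Over.mk z.left
  let e : X' ≅ (Over.mk ((Over.mk (Y'.hom ≫ f) : Over X.left).hom ≫ q) : Over S) :=
    Over.isoMk (Iso.refl _) (by
      show 𝟙 _ ≫ (z.left ≫ f) ≫ q = X'.hom
      rw [Category.id_comp, Category.assoc]
      exact Over.w z)
  let Φ : (Y' ⟶ Red.bc f (Red.bc q G)) →* (X' ⟶ G) :=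
    MonoidHom.mk' (fun a => e.hom ≫ NilAction.toBase q (NilAction.toBase f a)) fun a a' => by
      rw [NilAction.toBase_mul, NilAction.toBase_mul, MonObj.comp_mul]
  let σ : Y' ⟶ Red.bc f (Red.bc q T) := NilAction.ofBase f (NilAction.ofBase q (e.inv ≫ s))
  have hΦ : ∀ a : Y' ⟶ Red.bc f (Red.bc q T), Φ (a ≫ F.map (Q.map (t ≫ h))) =
      (e.hom ≫ NilAction.toBase q (NilAction.toBase f a)) ≫ t ≫ h := fun a => by
    show e.hom ≫ NilAction.toBase q (NilAction.toBase f _) = _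
    rw [Groth.L14.RankOne.toBase_comp_map, Groth.L14.RankOne.toBase_comp_map]
    simp only [Category.assoc]
  have hσ : Φ (σ ≫ F.map (Q.map (t ≫ h))) = s ≫ t ≫ h := by
    rw [hΦ, NilAction.toBase_ofBase, NilAction.toBase_ofBase, Iso.hom_inv_id_assoc]
  have hg : Φ (toUnit Y' ≫ gY) = z ≫ ((Over.homMk f ≫ γ) * (y ≫ h)) := by
    rw [MonObj.comp_mul, map_mul, MonObj.comp_mul]
    congr 1
    · show e.hom ≫ NilAction.toBase q (NilAction.toBase f _) = _
      rw [CentralLift.toBase_comp, NilAction.toBase_ofBase, ← Category.assoc, CentralLift.toBase_comp,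
        NilAction.toBase_ofBase]
      simp only [← Category.assoc]
      congr 1
    · show e.hom ≫ NilAction.toBase q (NilAction.toBase f _) = _
      rw [← Category.assoc (toUnit Y'), Groth.L14.RankOne.toBase_comp_map, Groth.L14.RankOne.toBase_comp_map,
        CentralLift.toBase_comp, CentralLift.toBase_comp]
      simp only [y, ← Category.assoc]
      congr 2
  obtain ⟨⟨s1, h1⟩, ⟨s2, h2⟩⟩ := (hconj Y' (toUnit Y')).imp (fun hh => hh σ) (fun hh => hh σ)
  refine ⟨⟨e.hom ≫ NilAction.toBase q (NilAction.toBase f s1), ?_⟩,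
    ⟨e.hom ≫ NilAction.toBase q (NilAction.toBase f s2), ?_⟩⟩
  · rw [← hΦ s1, ← h1, map_mul, map_mul, map_inv, hg, hσ]
  · rw [← hΦ s2, ← h2, map_mul, map_mul, map_inv, hg, hσ]

end Groth.L15.Killing

end
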